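import Cfsg.Agent.H157.Ab.StmtX3
import Cfsg.Agent.H378.TwRows
import Cfsg.Agent.S1092

/-!
# `³D₄(q)`: abelian `p'`-subgroups, `p` the characteristic (helper804)

* `sb_twD4` : the statement `SBTwD4` of `H157/Ab/Rows`, from `X3`.
-/

set_option autoImplicit false

namespace Cfsg.Agent.H804.D4Ab

open Cfsg Cfsg.Lie Cfsg.Agent.ChevalleyStructure Cfsg.Agent.Nodes Cfsg.Agent.H378
open Cfsg.Agent.ChevalleyStructure.CoxeterGeomTypes

theorem card_W : Nat.card coxeterD4.Group = 192 := S1092.result (⟨4, coxeterD4⟩, 192) (by simp)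

theorem sb_twD4 (hX : H157.Ab.X3) : H157.Ab.SBTwD4 := by
  intro K _ _ q hK p hp hC
  have hq : IsPrimePow q := by
    have h1 := FiniteField.isPrimePow_card K
    rw [hK] at h1
    exact (isPrimePow_pow_iff (by norm_num)).1 h1
  obtain ⟨k, _, _, f, p', _, _, n, hk, hka, hn0, hn⟩ := TorFin.exists_closure K
  obtain ⟨p'', e, hp'', he, hqe'⟩ := id hq
  have hpF : Fact p'.Prime := inferInstance
  have hpp : p'' = p' := by
    have h1 : p'' ∣ p' ^ n := by
      rw [← hn, Nat.card_eq_fintype_card, hK, ← hqe']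
      exact dvd_pow (dvd_pow_self p'' he.ne') (by norm_num)
    exact (Nat.prime_dvd_prime_iff_eq hp''.nat_prime hpF.out).1 (hp''.nat_prime.dvd_of_dvd_pow h1)
  have hpp' : p'' = p := by
    have h1 : p ∣ Fintype.card K := by
      have h2 : (Fintype.card K : K) = 0 := FiniteField.cast_card_eq_zero K
      exact (CharP.cast_eq_zero_iff K p _).1 h2
    rw [hK, ← hqe', ← pow_mul] at h1
    exact ((Nat.prime_dvd_prime_iff_eq hp.out hp''.nat_prime).1 (hp.out.dvd_of_dvd_pow h1)).symm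
  subst hpp
  subst hpp'
  have hqe : q = p'' ^ e := hqe'.symm
  have key := hX chevD4 4 coxeterD4 RGDTwD4.hp k p'' hk ↥(twistedD4 K q) (H129.TriD4.embT f hq hK)
    (H129.TriD4.embT_injective f hq hK) e _ _ he H129.TriD4.isFrob_tau
    (H129.TriD4.fr_tau coxeterD4.toCoxeterSystem) (fun a => H129.TriD4.tau_embT f hqe hq hK a)
  rwa [hqe', card_W] at key

end Cfsg.Agent.H804.D4Ab
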