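import Cfsg.Agent.H804.D4Ab.UniCard

/-!
# The torus of `³D₄(q)` and centralised unipotent subgroups (helper804, S2501)

* `TAct σ t α β` : `t` acts on the relative root groups by the scalars `chx σ α β i`;
* `exists_tact` : the elements of the torus of `³D₄(q)`;
* `card_four`, `card_one` : the order of a unipotent subgroup centralised by `t u`.
-/

set_option autoImplicit false

namespace Cfsg.Agent.H804.D4Ab

open Cfsg.Lie Subgroup
open Cfsg.Agent.ChevalleyStructure.D4Fixed (sig coe_sig fix mem_fix)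
open Cfsg.Agent.ChevalleyStructure
open Cfsg.Agent.ChevalleyStructure.D4Comm
open Cfsg.Agent.ChevalleyStructure.D4NConj
open Cfsg.Agent.ChevalleyStructure.D4U
open Cfsg.Agent.ChevalleyStructure.D4Cols (coef)
open Cfsg.Agent.ChevalleyStructure.D4Torus
open Cfsg.Agent.ChevalleyStructure.D4H1 (exists_char)
open Cfsg.Agent.KFacts.Mult.D4Base
open Cfsg.Agent.Hexagon.TwD4Rel Cfsg.Agent.SplitTwo
open scoped commutatorElement

variable {K : Type*} [Field K]

theorem wt_coef : ∀ s < 24, ∀ j < 4, wt j (4 + s) = coef s j := by decide +kernel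

theorem tor_eq_torG (χ : Fin 4 → Kˣ) : (tor χ : GL chevD4.Idx K) = torG χ := by
  apply Units.ext
  rw [coe_torG]
  show Matrix.diagonal (fun j => ((val χ j : Kˣ) : K)) = _
  congr 1
  funext k
  rcases k with i | s
  · have h : ∀ j, wt j (i : ℕ) = 0 := fun j => if_pos i.2
    show ((1 : Kˣ) : K) = dv (fun i => (χ i : K)) (i : ℕ)
    rw [dv_def, h, h, h, h]
    simp
  · have h := wt_coef s.val s.2
    show ((χ 0 ^ coef s.val 0 * (χ 1 ^ coef s.val 1 * (χ 2 ^ coef s.val 2 * χ 3 ^ coef s.val 3)) : Kˣ) : K) =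
      dv (fun i => (χ i : K)) (4 + s.val)
    rw [dv_def, h 0 (by norm_num), h 1 (by norm_num), h 2 (by norm_num), h 3 (by norm_num)]
    push_cast
    ring

theorem chi_val (c : Fin 4 → Kˣ) {s : ℕ} {w0 w1 w2 w3 : ℤ}
    (h : (wt 0 (4 + s), wt 1 (4 + s), wt 2 (4 + s), wt 3 (4 + s)) = (w0, w1, w2, w3)) :
    (chi c s : K) = (c 0 : K) ^ w0 * (c 1 : K) ^ w1 * (c 2 : K) ^ w2 * (c 3 : K) ^ w3 := by
  simp only [Prod.mk.injEq] at h
  rw [chi_def, dv_def, h.1, h.2.1, h.2.2.1, h.2.2.2]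

variable (σ : K ≃+* K)

/-- the scalars of the torus -/
def chx (α β : K) (i : ℕ) : K :=
  match i with
  | 0 => β
  | 1 => α
  | 2 => α * β
  | 3 => β * (σ α * σ (σ α))
  | 4 => β * (α * σ α * σ (σ α))
  | _ => β * β * (α * σ α * σ (σ α))

/-- the action of a torus element -/
structure TAct (t : GL chevD4.Idx K) (α β : K) : Prop where
  conj : ∀ i < 6, ∀ a, t * xs σ i a * t⁻¹ = xs σ i (chx σ α β i * a)
  nrm : ∀ i ≤ 6, ∀ v ∈ RS K (LL i), t * v * t⁻¹ ∈ RS K (LL i)
  a0 : α ≠ 0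
  b0 : β ≠ 0
  fx : σ β = β
  triv : α = 1 → β = 1 → t = 1

theorem conj_wordG (t : GL chevD4.Idx K) (c : ℕ → K) (l : List (ℕ × K))
    (h : ∀ p ∈ l, ∀ u, t * xG p.1 u * t⁻¹ = xG p.1 (c p.1 * u)) :
    t * wordG l * t⁻¹ = wordG (l.map fun p => (p.1, c p.1 * p.2)) := by
  induction l with
  | nil => simp [wordG_nil]
  | cons p l ih =>
    rw [wordG_cons, List.map_cons, wordG_cons, ← ih fun p hp => h p (by simp [hp]), ← h p (by simp)]
    group

theorem tact (χ : Fin 4 → Kˣ) (h1 : σ (χ 1 : K) = χ 1) (h2 : (χ 2 : K) = σ (χ 0 : K))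
    (h3' : (χ 3 : K) = σ (σ (χ 0 : K))) (h3 : ∀ a, σ (σ (σ a)) = a) : TAct σ (tor χ) (χ 0 : K) (χ 1 : K) where
  conj := by
    have hc : ∀ s < 24, ∀ u, tor χ * xG s u * (tor χ)⁻¹ = xG s ((chi χ s : K) * u) := fun s hs u => by
      rw [tor_eq_torG, torG_conj _ hs]
    have e14 : (chi χ 14 : K) = χ 1 := by
      rw [chi_val χ (w0 := 0) (w1 := 1) (w2 := 0) (w3 := 0) (by decide)]; simp
    have e18 : (chi χ 18 : K) = χ 0 := by
      rw [chi_val χ (w0 := 1) (w1 := 0) (w2 := 0) (w3 := 0) (by decide)]; simp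
    have e13 : (chi χ 13 : K) = σ (χ 0 : K) := by
      rw [chi_val χ (w0 := 0) (w1 := 0) (w2 := 1) (w3 := 0) (by decide)]; simp [h2]
    have e12 : (chi χ 12 : K) = σ (σ (χ 0 : K)) := by
      rw [chi_val χ (w0 := 0) (w1 := 0) (w2 := 0) (w3 := 1) (by decide)]; simp [h3']
    have e19 : (chi χ 19 : K) = χ 0 * χ 1 := by
      rw [chi_val χ (w0 := 1) (w1 := 1) (w2 := 0) (w3 := 0) (by decide)]; simp
    have e16 : (chi χ 16 : K) = σ (χ 0 : K) * χ 1 := by
      rw [chi_val χ (w0 := 0) (w1 := 1) (w2 := 1) (w3 := 0) (by decide)]; simp [h2]; ring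
    have e15 : (chi χ 15 : K) = σ (σ (χ 0 : K)) * χ 1 := by
      rw [chi_val χ (w0 := 0) (w1 := 1) (w2 := 0) (w3 := 1) (by decide)]; simp [h3']; ring
    have e17 : (chi χ 17 : K) = χ 1 * (σ (χ 0 : K) * σ (σ (χ 0 : K))) := by
      rw [chi_val χ (w0 := 0) (w1 := 1) (w2 := 1) (w3 := 1) (by decide)]; simp [h2, h3']; ring
    have e20 : (chi χ 20 : K) = χ 1 * (σ (σ (χ 0 : K)) * χ 0) := by
      rw [chi_val χ (w0 := 1) (w1 := 1) (w2 := 0) (w3 := 1) (by decide)]; simp [h3']; ring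
    have e21 : (chi χ 21 : K) = χ 1 * (χ 0 * σ (χ 0 : K)) := by
      rw [chi_val χ (w0 := 1) (w1 := 1) (w2 := 1) (w3 := 0) (by decide)]; simp [h2]; ring
    have e22 : (chi χ 22 : K) = χ 1 * (χ 0 * σ (χ 0 : K) * σ (σ (χ 0 : K))) := by
      rw [chi_val χ (w0 := 1) (w1 := 1) (w2 := 1) (w3 := 1) (by decide)]; simp [h2, h3']; ring
    have e23 : (chi χ 23 : K) = χ 1 * χ 1 * (χ 0 * σ (χ 0 : K) * σ (σ (χ 0 : K))) := by
      rw [chi_val χ (w0 := 1) (w1 := 2) (w2 := 1) (w3 := 1) (by decide)]; simp [h2, h3']; ring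
    intro i hi a
    interval_cases i
    · show tor χ * wordG [(14, a)] * (tor χ)⁻¹ = wordG [(14, (χ 1 : K) * a)]
      rw [conj_wordG _ (fun s => (chi χ s : K)) _ (by simp [hc])]
      simp only [List.map_cons, List.map_nil, e14]
    · show tor χ * wordG [(18, a), (13, σ a), (12, σ (σ a))] * (tor χ)⁻¹ =
        wordG [(18, (χ 0 : K) * a), (13, σ ((χ 0 : K) * a)), (12, σ (σ ((χ 0 : K) * a)))]
      rw [conj_wordG _ (fun s => (chi χ s : K)) _ (by simp [hc])]
      simp only [List.map_cons, List.map_nil, e18, e13, e12, map_mul]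
    · show tor χ * wordG [(19, a), (16, -σ a), (15, -σ (σ a))] * (tor χ)⁻¹ =
        wordG [(19, (χ 0 : K) * χ 1 * a), (16, -σ ((χ 0 : K) * χ 1 * a)), (15, -σ (σ ((χ 0 : K) * χ 1 * a)))]
      rw [conj_wordG _ (fun s => (chi χ s : K)) _ (by simp [hc])]
      simp only [List.map_cons, List.map_nil, e19, e16, e15, map_mul, mul_neg, h1]
    · show tor χ * wordG [(17, -a), (20, σ a), (21, σ (σ a))] * (tor χ)⁻¹ =
        wordG [(17, -((χ 1 : K) * (σ (χ 0 : K) * σ (σ (χ 0 : K))) * a)),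
          (20, σ ((χ 1 : K) * (σ (χ 0 : K) * σ (σ (χ 0 : K))) * a)),
          (21, σ (σ ((χ 1 : K) * (σ (χ 0 : K) * σ (σ (χ 0 : K))) * a)))]
      rw [conj_wordG _ (fun s => (chi χ s : K)) _ (by simp [hc])]
      simp only [List.map_cons, List.map_nil, e17, e20, e21, map_mul, mul_neg, h1, h3]
    · show tor χ * wordG [(22, a)] * (tor χ)⁻¹ =
        wordG [(22, (χ 1 : K) * ((χ 0 : K) * σ (χ 0 : K) * σ (σ (χ 0 : K))) * a)]
      rw [conj_wordG _ (fun s => (chi χ s : K)) _ (by simp [hc])]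
      simp only [List.map_cons, List.map_nil, e22]
    · show tor χ * wordG [(23, -a)] * (tor χ)⁻¹ =
        wordG [(23, -((χ 1 : K) * χ 1 * ((χ 0 : K) * σ (χ 0 : K) * σ (σ (χ 0 : K))) * a))]
      rw [conj_wordG _ (fun s => (chi χ s : K)) _ (by simp [hc])]
      simp only [List.map_cons, List.map_nil, e23, mul_neg]
  nrm := by
    have hc : ∀ s < 24, ∀ u, tor χ * xG s u * (tor χ)⁻¹ = xG s ((chi χ s : K) * u) := fun s hs u => by
      rw [tor_eq_torG, torG_conj _ hs]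
    intro i hi v hv
    have h24 : ∀ s ∈ LL i, s < 24 := by
      intro s hs
      interval_cases i <;> simp [LL] at hs <;> omega
    have key : RS K (LL i) ≤ (RS K (LL i)).comap (MulAut.conj (tor χ)).toMonoidHom := by
      refine Cfsg.Agent.ChevalleyStructure.TwistedU.rspan_le D4Comm.xG fun s hs t => ?_
      show tor χ * xG s t * (tor χ)⁻¹ ∈ RS K (LL i)
      rw [hc s (h24 s hs)]
      exact xG_mem_RS hs _
    exact key hv
  a0 := (χ 0).ne_zero
  b0 := (χ 1).ne_zero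
  fx := h1
  triv := by
    intro ha hb
    have h : χ = 1 := by
      funext i
      apply Units.ext
      fin_cases i
      · exact ha
      · exact hb
      · show (χ 2 : K) = 1
        rw [h2, ha, map_one]
      · show (χ 3 : K) = 1
        rw [h3', ha, map_one, map_one]
    rw [h, tor_one]

/-- **The torus of `³D₄(q)`.** -/
theorem exists_tact [Fintype K] {q : ℕ} (hK : Fintype.card K = q ^ 3) (hσ : ∀ x, σ x = x ^ q)
    (h3 : ∀ a, σ (σ (σ a)) = a) {t : GL chevD4.Idx K} (ht : t ∈ chevD4.diagonalSubgroup K ⊓ twistedD4 K q) :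
    ∃ α β : K, TAct σ t α β := by
  obtain ⟨χ, rfl, h1, h2, h4⟩ := exists_char (φ := (σ : K →+* K)) hK hσ ht
  refine ⟨_, _, tact σ χ h1 ?_ ?_ h3⟩
  · rw [h2]; rfl
  · rw [h4]; rfl

variable {σ}

theorem xs_add (i : ℕ) (hi : i < 6) (a b : K) : xs σ i (a + b) = xs σ i a * xs σ i b := by
  interval_cases i
  · show wordG [(14, a + b)] = wordG [(14, a)] * wordG [(14, b)]
    simp only [wordG_cons, wordG_nil, mul_one, xG_add]
  · show X1 σ (a + b) = X1 σ a * X1 σ b
    simp only [X1, map_add]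
    exact add_triple (by decide +kernel) (by decide +kernel) (by decide +kernel) _ _ _ _ _ _
  · show X5 σ (a + b) = X5 σ a * X5 σ b
    simp only [X5, map_add, neg_add]
    exact add_triple (by decide +kernel) (by decide +kernel) (by decide +kernel) _ _ _ _ _ _
  · show X3 σ (a + b) = X3 σ a * X3 σ b
    simp only [X3, map_add, neg_add]
    exact add_triple (by decide +kernel) (by decide +kernel) (by decide +kernel) _ _ _ _ _ _
  · show wordG [(22, a + b)] = wordG [(22, a)] * wordG [(22, b)]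
    simp only [wordG_cons, wordG_nil, mul_one, xG_add]
  · show wordG [(23, -(a + b))] = wordG [(23, -a)] * wordG [(23, -b)]
    simp only [wordG_cons, wordG_nil, mul_one, neg_add, xG_add]

/-- the coordinates of an element centralised by `t u` -/
theorem fix_of_comm (h3 : ∀ a, σ (σ (σ a)) = a) {t u g : GL chevD4.Idx K} {α β : K} (ht : TAct σ t α β)
    (hu : u ∈ RS K (LL 0)) (hc : t * u * g = g * (t * u)) {i : ℕ} (hi : i < 6) {a : K}
    (hgi : g ∈ RS K (LL i)) (hg : (xs σ i a)⁻¹ * g ∈ RS K (LL (i + 1))) : chx σ α β i * a = a := by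
  set v := (xs σ i a)⁻¹ * g with hv
  have hgv : g = xs σ i a * v := by rw [hv]; group
  have h1 : ⁅u, g⁆ ∈ RS K (LL (i + 1)) := LL_central hi hu hgi
  have h2 : g = (t * ⁅u, g⁆ * t⁻¹) * xs σ i (chx σ α β i * a) * (t * v * t⁻¹) := by
    rw [← ht.conj i hi a]
    have e : t * ⁅u, g⁆ * t⁻¹ * (t * xs σ i a * t⁻¹) * (t * v * t⁻¹) = t * u * g * (t * u)⁻¹ := by
      rw [commutatorElement_def]
      calc _ = t * u * g * u⁻¹ * g⁻¹ * (xs σ i a * v) * t⁻¹ := by group
        _ = _ := by rw [← hgv]; group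
    rw [e, hc]
    group
  have m1 : t * ⁅u, g⁆ * t⁻¹ ∈ RS K (LL (i + 1)) := ht.nrm _ (by omega) _ h1
  have m2 : t * v * t⁻¹ ∈ RS K (LL (i + 1)) := ht.nrm _ (by omega) _ hg
  have h4 : (xs σ i a)⁻¹ * xs σ i (chx σ α β i * a) ∈ RS K (LL (i + 1)) := by
    have e : (xs σ i a)⁻¹ * xs σ i (chx σ α β i * a) = ((xs σ i a)⁻¹ * (t * ⁅u, g⁆ * t⁻¹)⁻¹ * xs σ i a) *
        ((xs σ i a)⁻¹ * g) * (t * v * t⁻¹)⁻¹ := by
      have : xs σ i (chx σ α β i * a) = (t * ⁅u, g⁆ * t⁻¹)⁻¹ * g * (t * v * t⁻¹)⁻¹ := by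
        calc xs σ i (chx σ α β i * a) = (t * ⁅u, g⁆ * t⁻¹)⁻¹ *
              (t * ⁅u, g⁆ * t⁻¹ * xs σ i (chx σ α β i * a) * (t * v * t⁻¹)) * (t * v * t⁻¹)⁻¹ := by group
          _ = _ := by rw [← h2]
      rw [this]
      group
    rw [e]
    refine mul_mem (mul_mem ?_ hg) (inv_mem m2)
    have := LL_conj (i := i + 1) (by omega) (inv_mem (LL_le_zero (xs_mem σ i hi a))) (inv_mem m1)
    rwa [inv_inv] at this
  have h5 : xs σ i (chx σ α β i * a - a) ∈ RS K (LL (i + 1)) := by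
    have e : (xs σ i a)⁻¹ * xs σ i (chx σ α β i * a) = xs σ i (chx σ α β i * a - a) := by
      rw [inv_mul_eq_iff_eq_mul, ← xs_add i hi]
      congr 1
      ring
    rwa [← e]
  exact sub_eq_zero.1 (xs_inj σ h3 hi h5)

theorem mem_LL_two {g : GL chevD4.Idx K} (h1 : g ∈ RS K (14 :: LL 2)) (h2 : g ∈ RS K (LL 1)) : g ∈ RS K (LL 2) := by
  classical
  have hgood : TwistedU.Good (xG : ℕ → K → GL chevD4.Idx K) (14 :: LL 2) :=
    D4Pos.good_of_goodB _ (by decide +kernel)
  obtain ⟨t, ht⟩ := TwistedU.exists_lprod xG_add (by decide) hgood h1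
  let t' : ℕ → K := fun r => if r ∈ [18, 13, 12] then 0 else t r
  have e2 : (TwistedU.lprod xG (LL 2) t : GL chevD4.Idx K) = TwistedU.lprod xG (LL 2) t' := by
    refine TwistedU.lprod_congr xG fun r hr => ?_
    have h : r ∉ [18, 13, 12] := by
      revert r
      decide
    exact (if_neg h).symm
  have e : g = TwistedU.lprod xG D4Pos.ordA t' := by
    rw [ht]
    show _ = TwistedU.lprod xG (14 :: 18 :: 13 :: 12 :: LL 2) t'
    rw [TwistedU.lprod_cons, TwistedU.lprod_cons, TwistedU.lprod_cons, TwistedU.lprod_cons, TwistedU.lprod_cons]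
    have a1 : t' 14 = t 14 := if_neg (by decide)
    have a2 : t' 18 = 0 := if_pos (by decide)
    have a3 : t' 13 = 0 := if_pos (by decide)
    have a4 : t' 12 = 0 := if_pos (by decide)
    rw [a1, a2, a3, a4, xG_zero, xG_zero, xG_zero, one_mul, one_mul, one_mul, e2]
  have h14 := lprod_suffix (p := [14]) (l := LL 1) rfl h2 e 14 (by simp)
  have h14' : t 14 = 0 := by
    have a1 : t' 14 = t 14 := if_neg (by decide)
    rwa [a1] at h14
  rw [ht, TwistedU.lprod_cons, h14', xG_zero, one_mul]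
  exact TwistedU.lprod_mem_rspan xG (fun _ h => h) _

/-! ### orders -/

section

variable [Fintype K] {q : ℕ}

theorem dc_zero (h3 : ∀ a, σ (σ (σ a)) = a) {t u : GL chevD4.Idx K} {α β : K} (ht : TAct σ t α β)
    (hu : u ∈ RS K (LL 0)) {A : Subgroup (GL chevD4.Idx K)} (hc : ∀ g ∈ A, t * u * g = g * (t * u)) {i : ℕ}
    (hi : i < 6) (hne : chx σ α β i ≠ 1) : Nat.card (Dc σ A i) ≤ 1 := by
  refine card_zero ?_
  rintro a ⟨-, g, hg, hgi, h⟩
  have h1 := fix_of_comm h3 ht hu (hc g hg) hi hgi h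
  have h2 : (chx σ α β i - 1) * a = 0 := by rw [sub_mul, h1, one_mul, sub_self]
  exact (mul_eq_zero.1 h2).resolve_left (sub_ne_zero.2 hne)

/-- **A unipotent group centralised by `t u`, `1 ≠ t` in the torus.** -/
theorem card_four (hq : 1 < q) (hK : Fintype.card K = q ^ 3) (hσ : ∀ x, σ x = x ^ q) (h3 : ∀ a, σ (σ (σ a)) = a)
    {t u : GL chevD4.Idx K} {α β : K} (ht : TAct σ t α β) (ht1 : t ≠ 1) (hu : u ∈ RS K (LL 0))
    {A : Subgroup (GL chevD4.Idx K)} (hf : A ≤ fix (σ : K →+* K)) (hA : A ≤ RS K (LL 0))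
    (hc : ∀ g ∈ A, t * u * g = g * (t * u)) : Nat.card A ≤ q ^ 4 := by
  refine (card_le_prod h3 hf hA).trans ?_
  have c0 := card_long hq hK hσ (A := A) (i := 0) (by norm_num)
  have c4 := card_long hq hK hσ (A := A) (i := 4) (by norm_num)
  have c5 := card_long hq hK hσ (A := A) (i := 5) (by norm_num)
  have c1 := card_short (q := q) hK (D := Dc σ A 1)
  have c2 := card_short (q := q) hK (D := Dc σ A 2)
  have c3 := card_short (q := q) hK (D := Dc σ A 3)
  have z0 := dc_zero h3 ht hu hc (i := 0) (by norm_num)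
  have z1 := dc_zero h3 ht hu hc (i := 1) (by norm_num)
  have z2 := dc_zero h3 ht hu hc (i := 2) (by norm_num)
  have z3 := dc_zero h3 ht hu hc (i := 3) (by norm_num)
  have z4 := dc_zero h3 ht hu hc (i := 4) (by norm_num)
  have z5 := dc_zero h3 ht hu hc (i := 5) (by norm_num)
  have hα := ht.a0
  have hβ := ht.b0
  have hne : ¬ (α = 1 ∧ β = 1) := fun h => ht1 (ht.triv h.1 h.2)
  have e0 : chx σ α β 0 = β := rfl
  have e1 : chx σ α β 1 = α := rfl
  have e2 : chx σ α β 2 = α * β := rfl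
  have e3 : chx σ α β 3 = β * (σ α * σ (σ α)) := rfl
  have e4 : chx σ α β 4 = β * (α * σ α * σ (σ α)) := rfl
  have e5 : chx σ α β 5 = β * β * (α * σ α * σ (σ α)) := rfl
  rw [e0] at z0
  rw [e1] at z1
  rw [e2] at z2
  rw [e3] at z3
  rw [e4] at z4
  rw [e5] at z5
  have hs : σ α = 1 → α = 1 := fun h => by
    have := congrArg (fun x => σ (σ x)) h
    simpa only [h3, map_one] using this
  -- products
  have P : ∀ {d0 d1 d2 d3 d4 d5 e0 e1 e2 e3 e4 e5 : ℕ}, d0 ≤ e0 → d1 ≤ e1 → d2 ≤ e2 → d3 ≤ e3 → d4 ≤ e4 → d5 ≤ e5 →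
      d0 * d1 * d2 * d3 * d4 * d5 ≤ e0 * e1 * e2 * e3 * e4 * e5 := by
    intro d0 d1 d2 d3 d4 d5 e0 e1 e2 e3 e4 e5 h0 h1 h2 h3 h4 h5
    gcongr
  -- at most one long root unless `β = 1`, `N α = 1`
  by_cases hb : β = 1
  · -- `β = 1`
    have ha : α ≠ 1 := fun h => hne ⟨h, hb⟩
    have z1' := z1 ha
    have z2' := z2 (by rw [hb, mul_one]; exact ha)
    by_cases hN : α * σ α * σ (σ α) = 1
    · have h31 : σ α * σ (σ α) ≠ 1 := fun h => ha (by rw [mul_assoc, h, mul_one] at hN; exact hN)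
      have z3' := z3 (by rw [hb, one_mul]; exact h31)
      calc _ ≤ q * 1 * 1 * 1 * q * q := P c0 z1' z2' z3' c4 c5
        _ = q ^ 3 := by ring
        _ ≤ q ^ 4 := Nat.pow_le_pow_right (by omega) (by norm_num)
    · have z4' := z4 (by rw [hb, one_mul]; exact hN)
      have z5' := z5 (by rw [hb, one_mul, one_mul]; exact hN)
      calc _ ≤ q * 1 * 1 * q ^ 3 * 1 * 1 := P c0 z1' z2' c3 z4' z5'
        _ = q ^ 4 := by ring
  · have z0' := z0 hb
    have z45 : Nat.card (Dc σ A 4) * Nat.card (Dc σ A 5) ≤ q := by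
      by_cases h4 : β * (α * σ α * σ (σ α)) = 1
      · have z5' := z5 (by rw [mul_assoc, h4, mul_one]; exact hb)
        calc _ ≤ q * 1 := Nat.mul_le_mul c4 z5'
          _ = q := mul_one q
      · calc _ ≤ 1 * q := Nat.mul_le_mul (z4 h4) c5
          _ = q := one_mul q
    have z123 : Nat.card (Dc σ A 1) * Nat.card (Dc σ A 2) * Nat.card (Dc σ A 3) ≤ q ^ 3 := by
      by_cases h1 : α = 1
      · have z2' := z2 (by rw [h1, one_mul]; exact hb)
        have z3' := z3 (by rw [h1, map_one, map_one, mul_one, mul_one]; exact hb)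
        calc _ ≤ q ^ 3 * 1 * 1 := by gcongr
          _ = q ^ 3 := by ring
      · have z1' := z1 h1
        by_cases h2 : α * β = 1
        · have z3' := z3 (fun h => by
            -- `β α = 1`, `β σα σσα = 1`, `α ∈ F_q`
            have h4 : β = α⁻¹ := eq_inv_of_mul_eq_one_right h2
            have h5 : σ α = α := by
              have := ht.fx
              rw [h4, map_inv₀] at this
              exact inv_injective this
            rw [h5, h5, ← mul_assoc, mul_comm β α, h2, one_mul] at h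
            exact h1 h)
          calc _ ≤ 1 * q ^ 3 * 1 := by gcongr
            _ = q ^ 3 := by ring
        · calc _ ≤ 1 * 1 * q ^ 3 := by gcongr; exact z2 h2
            _ = q ^ 3 := by ring
    calc _ = Nat.card (Dc σ A 0) * (Nat.card (Dc σ A 1) * Nat.card (Dc σ A 2) * Nat.card (Dc σ A 3)) *
          (Nat.card (Dc σ A 4) * Nat.card (Dc σ A 5)) := by ring
      _ ≤ 1 * q ^ 3 * q := by gcongr
      _ = q ^ 4 := by ring

/-- **The case `α = 1`, no coordinate at the root `a`.** -/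
theorem card_one (hq : 1 < q) (hK : Fintype.card K = q ^ 3) (hσ : ∀ x, σ x = x ^ q) (h3 : ∀ a, σ (σ (σ a)) = a)
    {t u : GL chevD4.Idx K} {β : K} (ht : TAct σ t 1 β) (ht1 : t ≠ 1) (hu : u ∈ RS K (LL 0))
    {A : Subgroup (GL chevD4.Idx K)} (hf : A ≤ fix (σ : K →+* K)) (hA : A ≤ RS K (14 :: LL 2))
    (hc : ∀ g ∈ A, t * u * g = g * (t * u)) : Nat.card A ≤ q := by
  have hmono : RS K (14 :: LL 2) ≤ RS K (LL 0) := RS_mono (by decide)
  refine (card_le_prod h3 hf (hA.trans hmono)).trans ?_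
  have c5 := card_long hq hK hσ (A := A) (i := 5) (by norm_num)
  have z0 := dc_zero h3 ht hu hc (i := 0) (by norm_num)
  have z2 := dc_zero h3 ht hu hc (i := 2) (by norm_num)
  have z3 := dc_zero h3 ht hu hc (i := 3) (by norm_num)
  have z4 := dc_zero h3 ht hu hc (i := 4) (by norm_num)
  have hb : β ≠ 1 := fun h => ht1 (ht.triv rfl h)
  have e0 : chx σ 1 β 0 = β := rfl
  have e2 : chx σ 1 β 2 = 1 * β := rfl
  have e3 : chx σ 1 β 3 = β * (σ 1 * σ (σ 1)) := rfl
  have e4 : chx σ 1 β 4 = β * (1 * σ 1 * σ (σ 1)) := rfl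
  rw [e0] at z0
  rw [e2, one_mul] at z2
  rw [e3, map_one, map_one, mul_one, mul_one] at z3
  rw [e4, map_one, map_one, mul_one, mul_one, mul_one] at z4
  have z1 : Nat.card (Dc σ A 1) ≤ 1 := by
    refine card_zero ?_
    rintro a ⟨-, g, hg, hgi, h⟩
    have h1 : g ∈ RS K (LL 2) := mem_LL_two (hA hg) hgi
    have h4 : xs σ 1 a ∈ RS K (LL 2) := by
      have := mul_mem h1 (inv_mem h)
      have e : g * ((xs σ 1 a)⁻¹ * g)⁻¹ = xs σ 1 a := by group
      rwa [e] at this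
    exact xs_inj σ h3 (by norm_num) h4
  calc _ ≤ 1 * 1 * 1 * 1 * 1 * q := by
        gcongr
        · exact z0 hb
        · exact z2 hb
        · exact z3 hb
        · exact z4 hb
    _ = q := by ring

end

end Cfsg.Agent.H804.D4Ab
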